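import Groth.Agent.FibDim.Scheme
import Groth.Agent.FibreDim.Topo
import Groth.Agent.GeomUnib.Irred
import Groth.Agent.BddFibLib.Basic

/-!
Maximal points and dimensions of products and base changes over a field.
-/

universe u

open AlgebraicGeometry CategoryTheory Limits Topology

namespace Groth.Agent.FibDim

/-- Maximality for generalisation. -/
abbrev IsMax' {Z : Scheme.{u}} (η : Z) : Prop := ∀ η', η' ⤳ η → η' = η

theorem exists_isMax'_specializes {Z : Scheme.{u}} (z : Z) : ∃ η : Z, η ⤳ z ∧ IsMax' η := by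
  obtain ⟨η, hη⟩ := QuasiSober.sober (isIrreducible_irreducibleComponent (x := z)) isClosed_irreducibleComponent
  exact ⟨η, hη.specializes mem_irreducibleComponent, fun η' h' => (h'.antisymm
    (GeomUnib.maximal_of_component η _ (irreducibleComponent_mem_irreducibleComponents z) hη η' h')).eq⟩

theorem exists_isMax'_component {Z : Scheme.{u}} {W : Set Z} (hW : W ∈ irreducibleComponents Z) :
    ∃ η : Z, closure {η} = W ∧ IsMax' η := by
  obtain ⟨η, hη⟩ := QuasiSober.sober hW.1 (isClosed_of_mem_irreducibleComponents _ hW)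
  exact ⟨η, hη, fun η' h' => (h'.antisymm (GeomUnib.maximal_of_component η W hW hη η' h')).eq⟩

theorem closure_mem_components {Z : Scheme.{u}} {η : Z} (h : IsMax' η) :
    closure {η} ∈ irreducibleComponents Z := by
  refine ⟨isIrreducible_singleton.closure, fun V hV hle => ?_⟩
  obtain ⟨v, hv⟩ := QuasiSober.sober hV.closure isClosed_closure
  rw [← h v (hv.specializes (subset_closure (hle (subset_closure rfl)))), hv.def]
  exact subset_closure

theorem topologicalKrullDim_le_of_max {Z : Scheme.{u}} {c : WithBot ℕ∞}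
    (h : ∀ η : Z, IsMax' η → topologicalKrullDim (closure ({η} : Set Z)) ≤ c) : topologicalKrullDim Z ≤ c := by
  refine FibreDim.dim_le_of_points fun z => ?_
  obtain ⟨η, hηz, hη⟩ := exists_isMax'_specializes z
  exact (FibreDim.dim_mono (closure_minimal (Set.singleton_subset_iff.2 hηz.mem_closure) isClosed_closure)).trans (h η hη)

theorem dim_closure_le {Z : Scheme.{u}} (z : Z) : topologicalKrullDim (closure ({z} : Set Z)) ≤ topologicalKrullDim Z :=
  IsInducing.subtypeVal.topologicalKrullDim_le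

theorem isMax'_map {X Y : Scheme.{u}} (p : X ⟶ Y) [Flat p] {η : X} (h : IsMax' η) : IsMax' (p η) := by
  intro z hz
  obtain ⟨w, hw, rfl⟩ := Flat.generalizingMap p hz
  rw [h w hw]

theorem exists_isMax'_over {X Y : Scheme.{u}} (p : X ⟶ Y) [Flat p] [Surjective p] {y : Y} (hy : IsMax' y) :
    ∃ η : X, IsMax' η ∧ p η = y := by
  obtain ⟨x, rfl⟩ := p.surjective y
  obtain ⟨η, hηx, hη⟩ := exists_isMax'_specializes x
  exact ⟨η, hη, hy _ (hηx.map p.continuous)⟩

variable {k : Type u} [Field k]

/-- The transcendence degree of the residue field, computed over `k`. -/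
theorem exists_trdeg {X : Scheme.{u}} (f : X ⟶ Spec (CommRingCat.of k)) [LocallyOfFiniteType f] (x : X)
    (ψ : CommRingCat.of k ⟶ X.residueField x) (hψ : Spec.map ψ = X.fromSpecResidueField x ≫ f) :
    ∃ n : ℕ, (letI := ψ.hom.toAlgebra; Algebra.trdeg k (X.residueField x)) = n ∧
      topologicalKrullDim (closure ({x} : Set X)) = n := by
  obtain ⟨n, hn, hn'⟩ := DimTrdeg.exists_dim_closure_eq_trdeg f x
  refine ⟨n, ?_, hn'⟩
  let κ₀ := (Spec (CommRingCat.of k)).residueField (f x)
  let e : CommRingCat.of k ⟶ κ₀ := Spec.preimage ((Spec (CommRingCat.of k)).fromSpecResidueField (f x))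
  have he : Spec.map e = (Spec (CommRingCat.of k)).fromSpecResidueField (f x) := Spec.map_preimage _
  have hsub : Subsingleton ↥(Spec (CommRingCat.of k)) := inferInstanceAs (Subsingleton (PrimeSpectrum k))
  have hci : IsClosedImmersion (Spec.map e) := by
    rw [he]
    exact isClosed_singleton_iff_isClosedImmersion.1 (Set.subsingleton_singleton.isClosed)
  have hfin : e.hom.Finite := (IsFinite.SpecMap_iff e).1 inferInstance
  have hcomp : e ≫ f.residueFieldMap x = ψ := Spec.map_injective (by
    rw [Spec.map_comp, he, hψ, Scheme.Hom.SpecMap_residueFieldMap_fromSpecResidueField])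
  algebraize [(f.residueFieldMap x).hom, e.hom, ψ.hom]
  have : IsScalarTower k κ₀ (X.residueField x) :=
    IsScalarTower.of_algebraMap_eq' (congrArg CommRingCat.Hom.hom hcomp).symm
  have : Module.Finite k κ₀ := hfin
  have : Algebra.IsAlgebraic k κ₀ := inferInstance
  rw [← hn, ← trdeg_add_eq k κ₀ (A := X.residueField x), trdeg_eq_zero (R := k) (A := κ₀), zero_add]

/-- A maximal point of a product lies over maximal points and has the sum of their dimensions. -/
theorem dim_closure_product {X Y : Scheme.{u}} (f : X ⟶ Spec (CommRingCat.of k)) (g : Y ⟶ Spec (CommRingCat.of k))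
    [LocallyOfFiniteType f] [LocallyOfFiniteType g] {η : ↥(pullback f g)} (hη : IsMax' η) :
    IsMax' (pullback.fst f g η) ∧ IsMax' (pullback.snd f g η) ∧
      topologicalKrullDim (closure ({η} : Set ↥(pullback f g))) =
        topologicalKrullDim (closure ({pullback.fst f g η} : Set X)) +
          topologicalKrullDim (closure ({pullback.snd f g η} : Set Y)) := by
  have : Flat f := BddFibLib.flat_to_field f
  have : Flat g := BddFibLib.flat_to_field g
  refine ⟨isMax'_map (pullback.fst f g) hη, isMax'_map (pullback.snd f g) hη, ?_⟩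
  set p := pullback.fst f g with hp
  set q := pullback.snd f g with hq
  set ξ := p η with hξ
  obtain ⟨η'', hη''⟩ : η ∈ Set.range (p.fiberι ξ) := by rw [p.range_fiberι]; exact rfl
  let gK := p.fiberToSpecResidueField ξ
  let ψX : CommRingCat.of k ⟶ X.residueField ξ := Spec.preimage (X.fromSpecResidueField ξ ≫ f)
  have hψX : Spec.map ψX = X.fromSpecResidueField ξ ≫ f := Spec.map_preimage _
  have hG : IsPullback (p.fiberι ξ ≫ q) gK g (Spec.map ψX) := by
    rw [hψX]
    exact (IsPullback.of_hasPullback p (X.fromSpecResidueField ξ)).paste_horiz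
      (IsPullback.of_hasPullback f g).flip
  have hmax : IsMax' η'' := fun a ha =>
    (p.fiberι ξ).isEmbedding.injective ((hη'' ▸ hη) _ (ha.map (p.fiberι ξ).continuous))
  obtain ⟨-, hd⟩ := dim_closure_of_isPullback g ψX hG η'' hmax
  have hLG : LocallyOfFiniteType gK := MorphismProperty.of_isPullback (P := @LocallyOfFiniteType) hG ‹_›
  let ψG : X.residueField ξ ⟶ (p.fiber ξ).residueField η'' :=
    Spec.preimage ((p.fiber ξ).fromSpecResidueField η'' ≫ gK)
  have hψG : Spec.map ψG = (p.fiber ξ).fromSpecResidueField η'' ≫ gK := Spec.map_preimage _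
  obtain ⟨b, hb, hb'⟩ := exists_trdeg (k := X.residueField ξ) gK η'' ψG hψG
  obtain ⟨a, ha, ha'⟩ := exists_trdeg f ξ ψX hψX
  let ψη : CommRingCat.of k ⟶ (pullback f g).residueField (p.fiberι ξ η'') :=
    Spec.preimage ((pullback f g).fromSpecResidueField _ ≫ p ≫ f)
  have hψη : Spec.map ψη = (pullback f g).fromSpecResidueField _ ≫ p ≫ f := Spec.map_preimage _
  obtain ⟨c, hc, hc'⟩ := exists_trdeg (p ≫ f) (p.fiberι ξ η'') ψη hψη
  rw [← hη'', hc', ha', show q (p.fiberι ξ η'') = (p.fiberι ξ ≫ q) η'' from rfl, ← hd, hb']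
  have hcomp : ψη ≫ (p.fiberι ξ).residueFieldMap η'' = ψX ≫ ψG := Spec.map_injective (by
    rw [Spec.map_comp, Spec.map_comp, hψη, hψX, ← Category.assoc,
      Scheme.Hom.SpecMap_residueFieldMap_fromSpecResidueField, hψG, Category.assoc, Category.assoc]
    congr 1
    rw [← Category.assoc, ← Category.assoc]
    exact congrArg (· ≫ f) pullback.condition)
  have hbij : Function.Bijective ((p.fiberι ξ).residueFieldMap η'').hom := by
    refine ⟨RingHom.injective _, fun z => ?_⟩
    obtain ⟨s, rfl⟩ := (p.fiber ξ).residue_surjective η'' z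
    obtain ⟨t, rfl⟩ := (p.fiberι ξ).stalkMap_surjective η'' s
    exact ⟨(pullback f g).residue _ t, rfl⟩
  algebraize [ψX.hom, ψG.hom, ψη.hom, (ψX ≫ ψG).hom]
  let e : (pullback f g).residueField (p.fiberι ξ η'') →ₐ[k] (p.fiber ξ).residueField η'' :=
    { ((p.fiberι ξ).residueFieldMap η'').hom with
      commutes' := fun r => congrArg (fun φ => φ.hom r) hcomp }
  have : IsScalarTower k (X.residueField ξ) ((p.fiber ξ).residueField η'') := IsScalarTower.of_algebraMap_eq' rfl
  have hnat : (c : Cardinal.{u}) = a + b := by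
    rw [← ha, ← hb, ← hc, (AlgEquiv.ofBijective e hbij).trdeg_eq,
      ← trdeg_add_eq k (X.residueField ξ) (A := (p.fiber ξ).residueField η'')]
  norm_cast at hnat ⊢

/-- Dimension of a product. -/
theorem topologicalKrullDim_product {X Y : Scheme.{u}} (f : X ⟶ Spec (CommRingCat.of k))
    (g : Y ⟶ Spec (CommRingCat.of k)) [LocallyOfFiniteType f] [LocallyOfFiniteType g] :
    topologicalKrullDim ↥(pullback f g) = topologicalKrullDim ↥X + topologicalKrullDim ↥Y := by
  have hbot : ∀ (Z : Scheme.{u}), IsEmpty Z → topologicalKrullDim Z = ⊥ := fun Z _ => Order.krullDim_eq_bot_iff.2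
    ⟨fun s => IsEmpty.false s.isIrreducible.nonempty.some⟩
  rcases isEmpty_or_nonempty ↥X with hX | hX
  · rw [hbot X hX, hbot _ (Function.isEmpty (pullback.fst f g)), WithBot.bot_add]
  rcases isEmpty_or_nonempty ↥Y with hY | hY
  · rw [hbot Y hY, hbot _ (Function.isEmpty (pullback.snd f g)), WithBot.add_bot]
  refine le_antisymm (topologicalKrullDim_le_of_max fun η hη => ?_) ?_
  · rw [(dim_closure_product f g hη).2.2]
    exact add_le_add (dim_closure_le _) (dim_closure_le _)
  have hsup : ∀ {Z : Scheme.{u}} (hZ : Z ⟶ Spec (CommRingCat.of k)) [LocallyOfFiniteType hZ] [Nonempty Z],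
      ∃ n : {η : Z // IsMax' η} → ℕ, (∀ η, topologicalKrullDim (closure ({η.1} : Set Z)) = n η) ∧
        topologicalKrullDim Z = ((⨆ η, (n η : ℕ∞) : ℕ∞) : WithBot ℕ∞) := by
    intro Z hZ _ _
    choose n hn using fun η : {η : Z // IsMax' η} => DimTrdeg.exists_dim_closure_eq_trdeg hZ η.1
    refine ⟨n, fun η => (hn η).2, le_antisymm (topologicalKrullDim_le_of_max fun η hη => ?_) ?_⟩
    · rw [(hn ⟨η, hη⟩).2]
      exact WithBot.coe_le_coe.2 (le_iSup (fun η => (n η : ℕ∞)) ⟨η, hη⟩)
    · obtain ⟨η₀, -, hη₀⟩ := exists_isMax'_specializes (Classical.arbitrary Z)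
      have : Nonempty {η : Z // IsMax' η} := ⟨⟨η₀, hη₀⟩⟩
      rw [WithBot.coe_iSup (OrderTop.bddAbove _)]
      exact iSup_le fun η => (hn η).2.symm.le.trans (dim_closure_le η.1)
  obtain ⟨n, hn, hdX⟩ := hsup f
  obtain ⟨m, hm, hdY⟩ := hsup g
  obtain ⟨ξ₀, -, hξ₀⟩ := exists_isMax'_specializes (Classical.arbitrary X)
  have hne : Nonempty {η : X // IsMax' η} := ⟨⟨ξ₀, hξ₀⟩⟩
  obtain ⟨υ₀, -, hυ₀⟩ := exists_isMax'_specializes (Classical.arbitrary Y)
  have hne' : Nonempty {η : Y // IsMax' η} := ⟨⟨υ₀, hυ₀⟩⟩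
  have : Nonempty ↥(pullback f g) := by
    obtain ⟨z, -⟩ := Scheme.Pullback.exists_preimage_pullback (f := f) (g := g) (Classical.arbitrary X)
      (Classical.arbitrary Y) (Subsingleton.elim (α := Spec (CommRingCat.of k)) _ _)
    exact ⟨z⟩
  obtain ⟨l, hl, hdP⟩ := hsup (pullback.fst f g ≫ f)
  rw [hdX, hdY, hdP, ← WithBot.coe_add, WithBot.coe_le_coe]
  refine ENat.iSup_add_iSup_le fun x y => ?_
  obtain ⟨z, hzx, hzy⟩ := Scheme.Pullback.exists_preimage_pullback (f := f) (g := g) x.1 y.1
    (Subsingleton.elim (α := Spec (CommRingCat.of k)) _ _)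
  obtain ⟨η, hηz, hη⟩ := exists_isMax'_specializes z
  obtain ⟨-, -, hd⟩ := dim_closure_product f g hη
  have ex : pullback.fst f g η = x.1 := x.2 _ (hzx ▸ hηz.map (pullback.fst f g).continuous)
  have ey : pullback.snd f g η = y.1 := y.2 _ (hzy ▸ hηz.map (pullback.snd f g).continuous)
  rw [ex, ey,
    hn x, hm y, hl ⟨η, hη⟩] at hd
  refine le_trans (le_of_eq ?_) (le_iSup (fun η => (l η : ℕ∞)) ⟨η, hη⟩)
  exact_mod_cast hd.symm

end Groth.Agent.FibDim
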