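import Mathlib
import Groth.Agent.DimTrdeg.Basic

/-!
# Components of a base change of an algebra of finite type along a field extension
-/

set_option autoImplicit false
universe u

open scoped TensorProduct

namespace Groth.Agent.FibDim

attribute [local instance] MvPolynomial.algebraMvPolynomial

/-- A minimal prime of the base change of a domain of finite type has the same dimension. -/
theorem ringKrullDim_quotient_of_isDomain (L K A : Type u) [Field L] [Field K] [Algebra L K]
    [CommRing A] [IsDomain A] [Algebra L A] [Algebra.FiniteType L A]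
    {p : Ideal (K ⊗[L] A)} (hp : p ∈ minimalPrimes (K ⊗[L] A)) :
    ringKrullDim ((K ⊗[L] A) ⧸ p) = ringKrullDim A := by
  obtain ⟨s, g, hg, hint⟩ := exists_integral_inj_algHom_of_fg L A
  let P := MvPolynomial (Fin s) L
  let R := MvPolynomial (Fin s) K
  algebraize [g.toRingHom]
  have : IsScalarTower L P A := IsScalarTower.of_algebraMap_eq fun x => (g.commutes x).symm
  have : Algebra.IsIntegral P A := ⟨hint⟩
  let e : R ⊗[P] A ≃ₐ[K] K ⊗[L] A := Algebra.IsPushout.cancelBaseChangeAlg L K P R A
  let q : Ideal (R ⊗[P] A) := p.comap e.toRingEquiv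
  have hq : q ∈ minimalPrimes (R ⊗[P] A) := by
    have h := Ideal.minimalPrimes_comap_of_surjective (f := e.toRingEquiv.toRingHom) (I := ⊥)
      e.surjective hp
    rwa [Ideal.comap_bot_of_injective e.toRingEquiv.toRingHom e.injective] at h
  have : Algebra.IsPushout L P K R := inferInstance
  have : Module.Flat P R :=
    Module.Flat.isBaseChange L P K R (Algebra.IsPushout.out (R := L) (S := P) (R' := K) (S' := R))
  have : q.IsPrime := hq.1.1
  -- the base change is torsion free over the polynomial ring
  let F := FractionRing A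
  have : FaithfulSMul P A := (faithfulSMul_iff_algebraMap_injective _ _).mpr hg
  have : Module.Flat P F := by
    have : FaithfulSMul P F := FaithfulSMul.trans P A F
    let := FractionRing.liftAlgebra P F
    exact Module.Flat.trans P (FractionRing P) F
  have hinj : Function.Injective (Algebra.TensorProduct.map (AlgHom.id P R) (IsScalarTower.toAlgHom P A F)) :=
    Module.Flat.lTensor_preserves_injective_linearMap (M := R)
      (IsScalarTower.toAlgHom P A F).toLinearMap (IsFractionRing.injective A F)
  have h0 : ∀ c : R, algebraMap R (R ⊗[P] A) c ∈ q → c = 0 := by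
    intro c hc
    by_contra hne
    refine Set.disjoint_left.1 (Ideal.disjoint_nonZeroDivisors_of_mem_minimalPrimes hq) hc
      (mem_nonZeroDivisors_iff_right.2 fun y hy => hinj ?_)
    rw [map_zero]
    have hreg : IsSMulRegular (R ⊗[P] F) c :=
      Module.Flat.isSMulRegular_of_isRegular (IsRegular.of_ne_zero hne)
    refine hreg ?_
    have := congrArg (Algebra.TensorProduct.map (AlgHom.id P R) (IsScalarTower.toAlgHom P A F)) hy
    rw [map_mul, map_zero, Algebra.TensorProduct.algebraMap_apply,
      Algebra.TensorProduct.map_tmul, map_one, AlgHom.id_apply] at this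
    change c • _ = c • _
    refine ((Algebra.smul_def c _).trans ?_).trans (smul_zero (A := R ⊗[P] F) c).symm
    rw [Algebra.TensorProduct.algebraMap_apply, mul_comm]
    exact this
  have hpq : p = q.map (e.toRingEquiv : (R ⊗[P] A) →+* K ⊗[L] A) :=
    (Ideal.map_comap_of_surjective _ e.toRingEquiv.surjective p).symm
  rw [← ringKrullDim_eq_of_ringEquiv (R := R ⊗[P] A ⧸ q) (Ideal.quotientEquiv q p e.toRingEquiv hpq)]
  have : Algebra.IsIntegral R (R ⊗[P] A ⧸ q) := inferInstance
  rw [DimTrdeg.ringKrullDim_eq_of_isIntegral R (R ⊗[P] A ⧸ q)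
    ((injective_iff_map_eq_zero _).2 fun c hc => h0 c (Ideal.Quotient.eq_zero_iff_mem.1 hc)),
    DimTrdeg.ringKrullDim_eq_of_isIntegral P A hg]
  simp [P, R, MvPolynomial.ringKrullDim_of_isNoetherianRing]

/-- A minimal prime containing the kernel of a surjection stays minimal, with the same quotient. -/
theorem exists_minimalPrimes_quotient {B B' : Type u} [CommRing B] [CommRing B'] (φ : B →+* B')
    (hφ : Function.Surjective φ) {p : Ideal B} (hp : p ∈ minimalPrimes B)
    (hker : RingHom.ker φ ≤ p) :
    ∃ p' ∈ minimalPrimes B', ringKrullDim (B ⧸ p) = ringKrullDim (B' ⧸ p') := by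
  have : p.IsPrime := hp.1.1
  have hcomap : (p.map φ).comap φ = p :=
    (Ideal.comap_map_of_surjective' _ hφ p).trans (sup_eq_left.2 hker)
  have : (p.map φ).IsPrime := Ideal.map_isPrime_of_surjective hφ hker
  refine ⟨p.map φ, ⟨⟨inferInstance, bot_le⟩, fun Q hQ hle => ?_⟩, ?_⟩
  · have : Q.IsPrime := hQ.1
    have hle' : Q.comap φ ≤ p := (Ideal.comap_mono hle).trans hcomap.le
    exact Ideal.map_le_iff_le_comap.2 (hp.2 ⟨Ideal.IsPrime.comap _, bot_le⟩ hle')
  · exact ringKrullDim_eq_of_ringEquiv (RingEquiv.ofBijective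
      (Ideal.quotientMap (p.map φ) φ hcomap.ge)
      ⟨Ideal.quotientMap_injective' hcomap.le, Ideal.quotientMap_surjective hφ⟩)

/-- A minimal prime of the base change has the dimension of the prime below it. -/
theorem ringKrullDim_quotient (L K A : Type u) [Field L] [Field K] [Algebra L K]
    [CommRing A] [Algebra L A] [Algebra.FiniteType L A]
    {p : Ideal (K ⊗[L] A)} (hp : p ∈ minimalPrimes (K ⊗[L] A)) :
    ringKrullDim ((K ⊗[L] A) ⧸ p) = ringKrullDim
      (A ⧸ p.comap (Algebra.TensorProduct.includeRight : A →ₐ[L] K ⊗[L] A)) := by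
  have : p.IsPrime := hp.1.1
  set p₀ := p.comap (Algebra.TensorProduct.includeRight : A →ₐ[L] K ⊗[L] A) with hp₀
  have : p₀.IsPrime := Ideal.IsPrime.comap _
  have : Algebra.FiniteType L (A ⧸ p₀) := inferInstance
  obtain ⟨p', hp', h⟩ := exists_minimalPrimes_quotient
    (Algebra.TensorProduct.map (AlgHom.id L K) (Ideal.Quotient.mkₐ L p₀)).toRingHom
    (TensorProduct.map_surjective Function.surjective_id Ideal.Quotient.mk_surjective) hp
    ((Algebra.TensorProduct.lTensor_ker (R := L) (A := K)
      (Ideal.Quotient.mkₐ L p₀) Ideal.Quotient.mk_surjective).trans_le (by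
        rw [show RingHom.ker (Ideal.Quotient.mkₐ L p₀) = p₀ from Ideal.mk_ker, hp₀]
        exact Ideal.map_comap_le))
  rw [h, ringKrullDim_quotient_of_isDomain L K (A ⧸ p₀) hp']

end Groth.Agent.FibDim
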