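import Mathlib
import Groth.Agent.DimTrdeg.Scheme
import Groth.Agent.FibDim.BaseChange

/-!
# Dimension of maximal points under extensions of the ground field and in fibres
-/

set_option autoImplicit false
universe u

open AlgebraicGeometry CategoryTheory Limits
open scoped TensorProduct

noncomputable section

namespace Groth.Agent.FibDim

variable {L K : Type u} [Field L] [Field K]

/-- Closures of points have the same dimension in an open subscheme. -/
theorem dim_closure_openImmersion {U X : Scheme.{u}} (g : U ⟶ X) [IsOpenImmersion g]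
    (f : X ⟶ Spec (CommRingCat.of L)) [LocallyOfFiniteType f] (x : U) :
    topologicalKrullDim (closure ({g x} : Set X)) = topologicalKrullDim (closure ({x} : Set U)) := by
  obtain ⟨n, hn, hn'⟩ := DimTrdeg.exists_dim_closure_eq_trdeg f (g x)
  obtain ⟨m, hm, hm'⟩ := DimTrdeg.exists_dim_closure_eq_trdeg (g ≫ f) x
  let := (f.residueFieldMap (g x)).hom.toAlgebra
  let : Algebra ((Spec (CommRingCat.of L)).residueField (f (g x))) (U.residueField x) :=
    ((g ≫ f).residueFieldMap x).hom.toAlgebra
  let e : X.residueField (g x) ≃ₐ[(Spec (CommRingCat.of L)).residueField (f (g x))] U.residueField x :=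
    { (asIso (g.residueFieldMap x)).commRingCatIsoToRingEquiv with
      commutes' := fun c => by
        change (g.residueFieldMap x).hom ((f.residueFieldMap (g x)).hom c) =
          ((g ≫ f).residueFieldMap x).hom c
        rw [Scheme.residueFieldMap_comp]; rfl }
  have h := e.trdeg_eq
  have hnm : (n : Cardinal.{u}) = m := hn.symm.trans (h.trans hm)
  rw [hn', hm', Nat.cast_inj.mp hnm]

/-- A maximal point of a base change along a field extension lies over a maximal point and has the
same dimension. -/
theorem dim_closure_of_isPullback {F G : Scheme.{u}} (f : F ⟶ Spec (CommRingCat.of L))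
    [LocallyOfFiniteType f] (φ : CommRingCat.of L ⟶ CommRingCat.of K) {gF : G ⟶ F}
    {gK : G ⟶ Spec (CommRingCat.of K)} (h : IsPullback gF gK f (Spec.map φ)) (η : G)
    (hη : ∀ η', η' ⤳ η → η' = η) :
    (∀ z, z ⤳ gF η → z = gF η) ∧
      topologicalKrullDim (closure ({η} : Set G)) = topologicalKrullDim (closure ({gF η} : Set F)) := by
  algebraize [φ.hom]
  have hflat : Flat (Spec.map φ) := Flat.SpecMap_iff.mpr (RingHom.flat_algebraMap_iff.mpr inferInstance)
  have : Flat gF := MorphismProperty.of_isPullback (P := @Flat) h.flip hflat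
  refine ⟨fun z hz => ?_, ?_⟩
  · obtain ⟨η', h', rfl⟩ := Flat.generalizingMap gF hz
    rw [hη η' h']
  obtain ⟨U, hU, hzU, -⟩ := exists_isAffineOpen_mem_and_subset (X := F) (x := gF η) (U := ⊤) trivial
  let A := Γ(F, U)
  obtain ⟨ψ, hψ⟩ := Spec.map_surjective (hU.fromSpec ≫ f)
  let : Algebra L A := ψ.hom.toAlgebra
  have : Algebra.FiniteType L A := by
    refine RingHom.finiteType_algebraMap.mp ?_
    exact (HasRingHomProperty.Spec_iff (P := @LocallyOfFiniteType)).mp (hψ ▸ inferInstance)
  let B := K ⊗[L] A
  let ι : Spec (CommRingCat.of B) ⟶ G := h.lift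
    (Spec.map (CommRingCat.ofHom (Algebra.TensorProduct.includeRight : A →ₐ[L] B).toRingHom) ≫ hU.fromSpec)
    (Spec.map (CommRingCat.ofHom (algebraMap K B))) (by
      rw [Category.assoc, ← hψ, ← Spec.map_comp, ← Spec.map_comp]
      congr 1
      ext c
      exact ((Algebra.TensorProduct.includeRight : A →ₐ[L] B).commutes c).trans
        (IsScalarTower.algebraMap_apply L K B c))
  have hsq : IsPullback ι (Spec.map (CommRingCat.ofHom (Algebra.TensorProduct.includeRight : A →ₐ[L] B).toRingHom))
      gF hU.fromSpec := by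
    refine IsPullback.of_right (h₁₂ := gK) (v₁₃ := Spec.map φ) (h₂₂ := f) ?_ (h.lift_fst _ _ _) h.flip
    rw [h.lift_snd, ← hψ]
    exact isPullback_SpecMap_of_isPushout φ ψ _ _ (by
      have := CommRingCat.isPushout_tensorProduct L K A
      exact this)
  have : IsOpenImmersion ι := MorphismProperty.of_isPullback (P := @IsOpenImmersion) hsq.flip inferInstance
  obtain ⟨P, rfl, hP⟩ := Scheme.exists_preimage_of_isPullback hsq η ((hU.primeIdealOf ⟨gF η, hzU⟩))
    (by rw [hU.fromSpec_primeIdealOf])
  have hmin : P.asIdeal ∈ minimalPrimes B := by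
    refine ⟨⟨P.2, bot_le⟩, fun Q hQ hle => ?_⟩
    have hspec : (⟨Q, hQ.1⟩ : Spec (CommRingCat.of B)) ⤳ P := (PrimeSpectrum.le_iff_specializes _ _).mp hle
    have := ι.isOpenEmbedding.injective (hη _ (hspec.map ι.continuous))
    rw [← this]
  have hp : gF (ι P) = hU.fromSpec (Spec.map (CommRingCat.ofHom
      (Algebra.TensorProduct.includeRight : A →ₐ[L] B).toRingHom) P) :=
    congr($(hsq.w) P)
  have : LocallyOfFiniteType gK := MorphismProperty.of_isPullback (P := @LocallyOfFiniteType) h ‹_›
  rw [dim_closure_openImmersion ι gK P, hp,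
    dim_closure_openImmersion hU.fromSpec f, DimTrdeg.topologicalKrullDim_closure_inter,
    DimTrdeg.topologicalKrullDim_closure_inter]
  exact ringKrullDim_quotient L K A hmin

/-- Components of a fibre over a field-valued point through a lift of the generic point of a component
of the fibre have the dimension of that component. -/
theorem dim_closure_fibre {X Y : Scheme.{u}} (f : X ⟶ Y) [LocallyOfFiniteType f] {y : Y} (ζ : f.fiber y)
    (hζ : ∀ z, z ⤳ ζ → z = ζ) (b : Spec (CommRingCat.of K) ⟶ Y) {G : Scheme.{u}} {gX : G ⟶ X}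
    {gK : G ⟶ Spec (CommRingCat.of K)} (h : IsPullback gX gK f b) {σ η : G}
    (hσ : gX σ = f.fiberι y ζ) (hησ : η ⤳ σ) (hη : ∀ η', η' ⤳ η → η' = η) :
    topologicalKrullDim (closure ({η} : Set G)) = topologicalKrullDim (closure ({ζ} : Set (f.fiber y))) := by
  obtain rfl : b (IsLocalRing.closedPoint K) = y := by
    rw [← Subsingleton.elim (gK σ) (IsLocalRing.closedPoint K), ← Scheme.Hom.comp_apply, ← h.w,
      Scheme.Hom.comp_apply, hσ]
    exact Set.mem_preimage.mp (f.range_fiberι _ ▸ Set.mem_range_self ζ :)
  let φ := Y.descResidueField (Scheme.stalkClosedPointTo b)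
  have hb : Spec.map φ ≫ Y.fromSpecResidueField _ = b :=
    Scheme.descResidueField_stalkClosedPointTo_fromSpecResidueField K Y b
  let gF : G ⟶ f.fiber (b (IsLocalRing.closedPoint K)) :=
    pullback.lift gX (gK ≫ Spec.map φ) (by rw [Category.assoc, hb, h.w])
  have hF : IsPullback gF gK (f.fiberToSpecResidueField _) (Spec.map φ) :=
    IsPullback.of_right (h₁₂ := f.fiberι _) (v₁₃ := f) (h₂₂ := Y.fromSpecResidueField _)
      (by rw [hb]; convert h using 1; exact pullback.lift_fst _ _ _) (pullback.lift_snd _ _ _)
      (IsPullback.of_hasPullback _ _)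
  have : LocallyOfFiniteType (f.fiberToSpecResidueField (b (IsLocalRing.closedPoint K))) :=
    MorphismProperty.of_isPullback (P := @LocallyOfFiniteType) (IsPullback.of_hasPullback f (Y.fromSpecResidueField _)) ‹_›
  obtain ⟨-, hdim⟩ := dim_closure_of_isPullback (L := Y.residueField (b (IsLocalRing.closedPoint K))) (K := K) (F := f.fiber (b (IsLocalRing.closedPoint K))) (f.fiberToSpecResidueField _) φ hF η hη
  have hσF : gF σ = ζ := by
    refine (f.fiberι _).isEmbedding.injective ?_
    rw [← hσ, ← Scheme.Hom.comp_apply]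
    exact congr($(pullback.lift_fst gX _ _) σ)
  rw [hdim, hζ (gF η) (hσF ▸ hησ.map gF.continuous)]

end Groth.Agent.FibDim
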