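import Groth.Agent.FibDim.MaxPoints
import Groth.Agent.GeomRedAt.Change

/-!
Irreducible components of products and base changes over a field.
-/

universe u

open AlgebraicGeometry CategoryTheory Limits Topology

namespace Groth.Agent.FibDim

variable {k : Type u} [Field k] {X : Scheme.{u}} (f : X ⟶ Spec (CommRingCat.of k))
  (K : Type u) [Field K] [Algebra k K]

local notation "e" => Spec.map (CommRingCat.ofHom (algebraMap k K))

theorem surjective_bc : Surjective (pullback.fst f e) :=
  MorphismProperty.pullback_fst (P := @Surjective) f e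
    ⟨fun _ => ⟨IsLocalRing.closedPoint K, Subsingleton.elim (α := Spec (CommRingCat.of k)) _ _⟩⟩

theorem dim_closure_bc [LocallyOfFiniteType f] {η : ↥(pullback f e)} (hη : IsMax' η) :
    IsMax' (pullback.fst f e η) ∧
      topologicalKrullDim (closure ({η} : Set ↥(pullback f e))) =
        topologicalKrullDim (closure ({pullback.fst f e η} : Set X)) :=
  dim_closure_of_isPullback f (CommRingCat.ofHom (algebraMap k K)) (IsPullback.of_hasPullback f e) η hη

theorem dim_bc [LocallyOfFiniteType f] : topologicalKrullDim ↥(pullback f e) = topologicalKrullDim X := by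
  have := surjective_bc f K
  have : Flat e := GeomRedAt.flat_SpecMap_field _
  refine le_antisymm (topologicalKrullDim_le_of_max fun η hη => ?_) (topologicalKrullDim_le_of_max fun ξ hξ => ?_)
  · exact (dim_closure_bc f K hη).2.trans_le (dim_closure_le _)
  · obtain ⟨η, hη, rfl⟩ := exists_isMax'_over (pullback.fst f e) hξ
    exact (dim_closure_bc f K hη).2.ge.trans (dim_closure_le _)

theorem image_dim_components_bc [LocallyOfFiniteType f] :
    (fun Z : Set ↥(pullback f e) => topologicalKrullDim ↥Z) '' irreducibleComponents ↥(pullback f e) =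
      (fun Z : Set ↥X => topologicalKrullDim ↥Z) '' irreducibleComponents ↥X := by
  have := surjective_bc f K
  have : Flat e := GeomRedAt.flat_SpecMap_field _
  ext d
  constructor
  · rintro ⟨W, hW, rfl⟩
    obtain ⟨η, rfl, hη⟩ := exists_isMax'_component hW
    exact ⟨_, closure_mem_components (dim_closure_bc f K hη).1, (dim_closure_bc f K hη).2.symm⟩
  · rintro ⟨Z, hZ, rfl⟩
    obtain ⟨ξ, rfl, hξ⟩ := exists_isMax'_component hZ
    obtain ⟨η, hη, rfl⟩ := exists_isMax'_over (pullback.fst f e) hξ
    exact ⟨_, closure_mem_components hη, (dim_closure_bc f K hη).2⟩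

/-- Reduced closed subschemes, pulled back along a projection. -/
theorem exists_closedImmersion_range {X P : Scheme.{u}} (p : P ⟶ X) {Z : Set X} (hZ : IsClosed Z) :
    ∃ (Z' : Scheme.{u}) (i : Z' ⟶ X), IsClosedImmersion i ∧ Set.range i = Z ∧
      Set.range (pullback.fst p i) = p ⁻¹' Z := by
  refine ⟨(Scheme.IdealSheafData.vanishingIdeal ⟨Z, hZ⟩).subscheme,
    (Scheme.IdealSheafData.vanishingIdeal ⟨Z, hZ⟩).subschemeι, inferInstance, ?_, ?_⟩
  · rw [Scheme.IdealSheafData.range_subschemeι, Scheme.IdealSheafData.coe_support_vanishingIdeal]; rfl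
  · rw [Scheme.Pullback.range_fst, Scheme.IdealSheafData.range_subschemeι,
      Scheme.IdealSheafData.coe_support_vanishingIdeal]; rfl

/-- Lifting generalisations inside the preimage of a closed subset of the other factor. -/
theorem exists_lift_in_preimage {X Y : Scheme.{u}} (f : X ⟶ Spec (CommRingCat.of k))
    (g : Y ⟶ Spec (CommRingCat.of k)) {C : Set Y} (hC : IsClosed C) {w : ↥(pullback f g)}
    (hw : pullback.snd f g w ∈ C) {ξ : X} (hξ : ξ ⤳ pullback.fst f g w) :
    ∃ w', w' ⤳ w ∧ pullback.fst f g w' = ξ ∧ pullback.snd f g w' ∈ C := by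
  obtain ⟨C', j, hj, hrange, hr⟩ := exists_closedImmersion_range (pullback.snd f g) hC
  have hsq : IsPullback (pullback.fst (pullback.snd f g) j ≫ pullback.fst f g) (pullback.snd (pullback.snd f g) j)
      f (j ≫ g) :=
    (IsPullback.of_hasPullback (pullback.snd f g) j).flip.paste_vert (IsPullback.of_hasPullback f g).flip |>.flip
  have : Flat (j ≫ g) := BddFibLib.flat_to_field _
  have : Flat (pullback.fst (pullback.snd f g) j ≫ pullback.fst f g) :=
    MorphismProperty.of_isPullback (P := @Flat) hsq.flip ‹_›
  obtain ⟨a, rfl⟩ : w ∈ Set.range (pullback.fst (pullback.snd f g) j) := by rw [hr]; exact hw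
  obtain ⟨b, hb, rfl⟩ := Flat.generalizingMap (pullback.fst (pullback.snd f g) j ≫ pullback.fst f g)
    (show ξ ⤳ (pullback.fst (pullback.snd f g) j ≫ pullback.fst f g) a from hξ)
  refine ⟨pullback.fst (pullback.snd f g) j b, hb.map (pullback.fst (pullback.snd f g) j).continuous, rfl, ?_⟩
  show pullback.fst (pullback.snd f g) j b ∈ pullback.snd f g ⁻¹' C
  rw [← hr]; exact ⟨b, rfl⟩

/-- Symmetric version. -/
theorem exists_lift_in_preimage' {X Y : Scheme.{u}} (f : X ⟶ Spec (CommRingCat.of k))
    (g : Y ⟶ Spec (CommRingCat.of k)) {C : Set X} (hC : IsClosed C) {w : ↥(pullback f g)}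
    (hw : pullback.fst f g w ∈ C) {υ : Y} (hυ : υ ⤳ pullback.snd f g w) :
    ∃ w', w' ⤳ w ∧ pullback.snd f g w' = υ ∧ pullback.fst f g w' ∈ C := by
  let s := pullbackSymmetry f g
  have h1 : s.hom ≫ pullback.fst g f = pullback.snd f g := pullbackSymmetry_hom_comp_fst f g
  have h2 : s.hom ≫ pullback.snd g f = pullback.fst f g := pullbackSymmetry_hom_comp_snd f g
  have e1 : ∀ z, pullback.fst g f (s.hom z) = pullback.snd f g z := fun z => by rw [← Scheme.Hom.comp_apply, h1]
  have e2 : ∀ z, pullback.snd g f (s.hom z) = pullback.fst f g z := fun z => by rw [← Scheme.Hom.comp_apply, h2]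
  obtain ⟨w', hw', h3, h4⟩ := exists_lift_in_preimage g f hC (w := s.hom w) (by rw [e2]; exact hw) (ξ := υ)
    (by rw [e1]; exact hυ)
  obtain ⟨b, rfl⟩ := s.hom.surjective w'
  rw [e1] at h3
  rw [e2] at h4
  exact ⟨b, s.hom.isEmbedding.isInducing.specializes_iff.1 hw', h3, h4⟩

/-- Components of a product are the maximal irreducible subsets over pairs of components. -/
theorem mem_components_product_iff {X Y : Scheme.{u}} (f : X ⟶ Spec (CommRingCat.of k))
    (g : Y ⟶ Spec (CommRingCat.of k)) (W : Set ↥(pullback f g)) :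
    W ∈ irreducibleComponents ↥(pullback f g) ↔
      ∃ X' ∈ irreducibleComponents ↥X, ∃ Y' ∈ irreducibleComponents ↥Y,
        Maximal (fun V : Set ↥(pullback f g) => IsIrreducible V ∧ V ⊆ ⇑(pullback.fst f g) ⁻¹' X' ∩ ⇑(pullback.snd f g) ⁻¹' Y') W := by
  have : Flat f := BddFibLib.flat_to_field f
  have : Flat g := BddFibLib.flat_to_field g
  constructor
  · intro hW
    obtain ⟨η, rfl, hη⟩ := exists_isMax'_component hW
    refine ⟨_, closure_mem_components (isMax'_map (pullback.fst f g) hη), _,
      closure_mem_components (isMax'_map (pullback.snd f g) hη), ⟨isIrreducible_singleton.closure, ?_⟩,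
      fun V hV hle => hW.2 hV.1 hle⟩
    exact closure_minimal (Set.singleton_subset_iff.2 ⟨subset_closure rfl, subset_closure rfl⟩)
      ((isClosed_closure.preimage (pullback.fst f g).continuous).inter (isClosed_closure.preimage (pullback.snd f g).continuous))
  · rintro ⟨X', hX', Y', hY', hmax⟩
    obtain ⟨ξ, rfl, hξ⟩ := exists_isMax'_component hX'
    obtain ⟨υ, rfl, hυ⟩ := exists_isMax'_component hY'
    set C := ⇑(pullback.fst f g) ⁻¹' closure {ξ} ∩ ⇑(pullback.snd f g) ⁻¹' closure {υ}
    have hC : IsClosed C :=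
      (isClosed_closure.preimage (pullback.fst f g).continuous).inter (isClosed_closure.preimage (pullback.snd f g).continuous)
    obtain ⟨w, hwgen⟩ := QuasiSober.sober hmax.1.1.closure isClosed_closure
    have hwC : w ∈ C := closure_minimal hmax.1.2 hC (hwgen.def ▸ subset_closure rfl)
    have hWeq : W = closure {w} := by
      refine (hmax.eq_of_ge ⟨isIrreducible_singleton.closure, closure_minimal (Set.singleton_subset_iff.2 hwC) hC⟩ ?_).symm
      rw [hwgen.def]; exact subset_closure
    have hwmax : ∀ z ∈ C, z ⤳ w → z = w := fun z hz hzw => by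
      have hsub : W ⊆ closure {z} := hWeq.trans_subset (closure_minimal (Set.singleton_subset_iff.2 hzw.mem_closure) isClosed_closure)
      have := hmax.2 ⟨isIrreducible_singleton.closure, closure_minimal (Set.singleton_subset_iff.2 hz) hC⟩ hsub (subset_closure rfl)
      rw [hWeq] at this
      exact (hzw.antisymm (specializes_iff_mem_closure.2 this)).eq
    have hp : pullback.fst f g w = ξ := by
      obtain ⟨w', hw', h1, h2⟩ := exists_lift_in_preimage f g isClosed_closure hwC.2
        (specializes_iff_mem_closure.2 hwC.1)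
      rw [← hwmax w' ⟨show _ ∈ closure {ξ} from h1 ▸ subset_closure rfl, h2⟩ hw', h1]
    have hq : pullback.snd f g w = υ := by
      obtain ⟨w', hw', h1, h2⟩ := exists_lift_in_preimage' f g isClosed_closure hwC.1
        (specializes_iff_mem_closure.2 hwC.2)
      rw [← hwmax w' ⟨h2, show _ ∈ closure {υ} from h1 ▸ subset_closure rfl⟩ hw', h1]
    rw [hWeq]
    refine closure_mem_components fun z hz => hwmax z ⟨?_, ?_⟩ hz
    · show pullback.fst f g z ∈ closure {ξ}
      rw [show pullback.fst f g z = ξ from hξ _ (hp ▸ hz.map (pullback.fst f g).continuous)]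
      exact subset_closure rfl
    · show pullback.snd f g z ∈ closure {υ}
      rw [show pullback.snd f g z = υ from hυ _ (hq ▸ hz.map (pullback.snd f g).continuous)]
      exact subset_closure rfl

/-- Components of the preimage of an irreducible closed set under base change. -/
theorem dim_component_preimage [LocallyOfFiniteType f] {Z : Set X} (hZc : IsClosed Z) (hZi : IsIrreducible Z)
    (W : Set ↥(⇑(pullback.fst f e) ⁻¹' Z)) (hW : W ∈ irreducibleComponents ↥(⇑(pullback.fst f e) ⁻¹' Z)) :
    topologicalKrullDim ↥W = topologicalKrullDim ↥Z := by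
  obtain ⟨Z', i, hi, hrange, hr⟩ := exists_closedImmersion_range (pullback.fst f e) hZc
  let G := pullback (pullback.fst f e) i
  have hsq : IsPullback (pullback.snd (pullback.fst f e) i) (pullback.fst (pullback.fst f e) i ≫ pullback.snd f e)
      (i ≫ f) e :=
    (IsPullback.of_hasPullback (pullback.fst f e) i).flip.paste_vert (IsPullback.of_hasPullback f e)
  let h : ↥G ≃ₜ ↥(⇑(pullback.fst f e) ⁻¹' Z) :=
    (pullback.fst (pullback.fst f e) i).isEmbedding.toHomeomorph.trans (Homeomorph.setCongr hr)
  obtain ⟨η, hηW, hη⟩ := exists_isMax'_component (Z := G) (W := h ⁻¹' W)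
    (preimage_mem_irreducibleComponents hW h.isOpenEmbedding (by
      rw [h.surjective.range_eq, Set.inter_univ]; exact hW.1.nonempty))
  obtain ⟨hmax, hdim⟩ := dim_closure_of_isPullback (i ≫ f) (CommRingCat.ofHom (algebraMap k K)) hsq η hη
  have hgen : closure ({pullback.snd (pullback.fst f e) i η} : Set Z') = Set.univ := by
    have hhom : ↥Z' ≃ₜ ↥Z := i.isEmbedding.toHomeomorph.trans (Homeomorph.setCongr hrange)
    have : PreirreducibleSpace ↥Z := Subtype.preirreducibleSpace hZi.2
    have : Nonempty ↥Z := hZi.nonempty.to_subtype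
    have : IrreducibleSpace ↥Z := ⟨inferInstance⟩
    have : IrreducibleSpace Z' := hhom.irreducibleSpace_iff.2 this
    rw [← hmax (genericPoint Z') (genericPoint_specializes _)]
    exact genericPoint_spec Z'
  rw [show pullback.snd (pullback.fst f e) i = pullback.snd (pullback.fst f e) i from rfl, hgen, hηW] at hdim
  rw [FibreDim.dim_homeo (Homeomorph.Set.univ Z')] at hdim
  rw [← FibreDim.dim_homeo (i.isEmbedding.toHomeomorph.trans (Homeomorph.setCongr hrange)), ← hdim,
    ← FibreDim.dim_image h.isEmbedding, h.image_preimage]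

end Groth.Agent.FibDim
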